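import Groth.Agent.H44LogNCD.Basic
import Groth.Agent.Synt29.OmegaAffine
import Groth.Agent.OmegaUniv.ToSectIso
import Mathlib.RingTheory.Etale.Kaehler
import Mathlib.RingTheory.Kaehler.Polynomial
import Mathlib.RingTheory.Flat.Stability

/-! # Frames of the differentials from étale coordinates -/

universe u

open CategoryTheory CategoryTheory.Limits AlgebraicGeometry TopologicalSpace Opposite

set_option linter.style.haveILetI false
set_option backward.isDefEq.respectTransparency false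
set_option backward.isDefEq.respectTransparency.types false

namespace Groth.Agent.H44LogNCD

variable {X S : Scheme.{u}} {f : X ⟶ S} {Ω' : X.Modules} {d : OmegaSh.Der f Ω'}

/-- Affine sections of the differentials, with the compatibility with the derivation. -/
theorem exists_omega_equiv (hd : OmegaSh.IsUniversal d) {U : X.Opens} (hU : IsAffineOpen U)
    {V : S.Opens} (hV : IsAffineOpen V) (e : U ≤ f ⁻¹ᵁ V) :
    letI := (f.appLE V U e).hom.toAlgebra
    ∃ E : Γ(Ω', U) ≃ₗ[Γ(X, U)] Ω[Γ(X, U)⁄Γ(S, V)],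
      ∀ b, E (d.app U b) = KaehlerDifferential.D Γ(S, V) Γ(X, U) b := by
  let _ := (f.appLE V U e).hom.toAlgebra
  obtain ⟨i, hi⟩ := Synt29.OmegaStalk.exists_iso_chart hd hU hV e
  let J := ((moduleSpecΓFunctor.mapIso i).trans
    (tilde.isoTop (R := Γ(X, U)) (ModuleCat.of Γ(X, U) (Ω[Γ(X, U)⁄Γ(S, V)]))).symm).toLinearEquiv
  refine ⟨(QCoh.chartEquiv hU Ω').trans J, fun b => ?_⟩
  have hle : hU.fromSpec ''ᵁ ⊤ ≤ U := by rw [Scheme.Hom.image_top_eq_opensRange, hU.opensRange_fromSpec]
  have h1 : QCoh.toChart hU Ω' (d.app U b) =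
      (Synt29.OmegaStalk.restrictDer hU.fromSpec d).app ⊤ (OmAff.toΓ Γ(X, U) b) := by
    show _ = d.app (hU.fromSpec ''ᵁ ⊤) ((hU.fromSpec.appIso ⊤).inv (OmAff.toΓ Γ(X, U) b))
    rw [← OmegaUniv.appIso_hom_res hU hle b, ← ConcreteCategory.comp_apply (hU.fromSpec.appIso ⊤).hom,
      Iso.hom_inv_id]
    exact (d.d_map (homOfLE hle).op b).symm
  show J (QCoh.toChart hU Ω' (d.app U b)) = _
  rw [h1]
  apply (Synt29.OmegaStalk.top_toTop_bijective Γ(S, V) Γ(X, U)).1
  rw [← hi b]
  exact (tilde.isoTop (R := Γ(X, U))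
    (ModuleCat.of Γ(X, U) (Ω[Γ(X, U)⁄Γ(S, V)]))).toLinearEquiv.apply_symm_apply _

theorem etale_aeval {n : ℕ} {W : X.Opens} {v : ULift.{u} (Fin n) → Γ(W, ⊤)}
    (hv : Etale (AffineSpace.homOfVector (W.ι ≫ f) v)) {U : X.Opens} (hU : IsAffineOpen U) (hUW : U ≤ W)
    {V : S.Opens} (hV : IsAffineOpen V) (e : U ≤ f ⁻¹ᵁ V) :
    letI := (f.appLE V U e).hom.toAlgebra
    RingHom.Etale (MvPolynomial.aeval (R := Γ(S, V)) fun j => LogNCD.sectOn W hUW (v j)).toRingHom := by
  let _ := (f.appLE V U e).hom.toAlgebra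
  let a : Spec Γ(X, U) ⟶ Spec Γ(S, V) := Spec.map (f.appLE V U e)
  let c : ULift.{u} (Fin n) → Γ(Spec Γ(X, U), ⊤) := fun j =>
    (Scheme.ΓSpecIso Γ(X, U)).inv (LogNCD.sectOn W hUW (v j))
  let g := AffineSpace.homOfVector a c
  let jW : Spec Γ(X, U) ⟶ W := hU.isoSpec.inv ≫ X.homOfLE hUW
  have hjW : jW ≫ W.ι = hU.fromSpec := by
    rw [Category.assoc, Scheme.homOfLE_ι, IsAffineOpen.isoSpec_inv_ι]
  have h1 : g ≫ AffineSpace.map _ hV.fromSpec = jW ≫ AffineSpace.homOfVector (W.ι ≫ f) v := by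
    refine AffineSpace.hom_ext ?_ fun j => ?_
    · rw [Category.assoc, Category.assoc, AffineSpace.map_over, AffineSpace.homOfVector_over,
        AffineSpace.homOfVector_over_assoc, reassoc_of% hjW]
      exact hV.SpecMap_appLE_fromSpec f hU e
    · rw [Scheme.Hom.comp_appTop, Scheme.Hom.comp_appTop, CommRingCat.comp_apply, CommRingCat.comp_apply,
        AffineSpace.map_appTop_coord, AffineSpace.homOfVector_appTop_coord,
        AffineSpace.homOfVector_appTop_coord, Scheme.Hom.comp_appTop, CommRingCat.comp_apply,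
        IsAffineOpen.isoSpec_inv_appTop, Scheme.homOfLE_appTop]
      simp only [c, LogNCD.sectOn_apply, Scheme.Opens.topIso_hom, ← CommRingCat.comp_apply,
        ← Functor.map_comp_assoc, ← Functor.map_comp]
      rfl
  haveI : IsOpenImmersion (AffineSpace.map (ULift.{u} (Fin n)) hV.fromSpec) :=
    MorphismProperty.of_isPullback (P := @IsOpenImmersion) (AffineSpace.isPullback_map _).flip inferInstance
  haveI : Etale g := by
    haveI : Etale (g ≫ AffineSpace.map _ hV.fromSpec) := by rw [h1]; infer_instance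
    exact MorphismProperty.of_postcomp (W := @Etale) (W' := @Etale) g
      (AffineSpace.map _ hV.fromSpec) inferInstance inferInstance
  let ψ := CommRingCat.ofHom (MvPolynomial.aeval (R := Γ(S, V)) fun j => LogNCD.sectOn W hUW (v j)).toRingHom
  have h2 : g = Spec.map ψ ≫ (AffineSpace.SpecIso _ Γ(S, V)).inv := by
    refine AffineSpace.hom_ext ?_ fun j => ?_
    · rw [AffineSpace.homOfVector_over, Category.assoc, AffineSpace.SpecIso_inv_over, ← Spec.map_comp]
      show Spec.map (f.appLE V U e) = _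
      congr 1
      ext r
      exact (MvPolynomial.aeval_C _ r).symm
    · rw [AffineSpace.homOfVector_appTop_coord, Scheme.Hom.comp_appTop, CommRingCat.comp_apply,
        AffineSpace.SpecIso_inv_appTop_coord, ← CommRingCat.comp_apply, ← Scheme.ΓSpecIso_inv_naturality,
        CommRingCat.comp_apply]
      show c j = (Scheme.ΓSpecIso Γ(X, U)).inv
        (MvPolynomial.aeval (R := Γ(S, V)) (fun j => LogNCD.sectOn W hUW (v j)) (MvPolynomial.X j))
      rw [MvPolynomial.aeval_X]
  have h3 : Etale (Spec.map ψ) := by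
    rw [show Spec.map ψ = g ≫ (AffineSpace.SpecIso _ Γ(S, V)).hom by rw [h2, Category.assoc, Iso.inv_hom_id, Category.comp_id]]
    infer_instance
  exact (HasRingHomProperty.Spec_iff (P := @Etale)).1 h3

/-- Étale coordinates give a basis of the differentials, and the coordinates are nonzerodivisors. -/
theorem exists_basis_of_etale {n : ℕ} {W : X.Opens} {v : ULift.{u} (Fin n) → Γ(W, ⊤)}
    (hv : Etale (AffineSpace.homOfVector (W.ι ≫ f) v)) (hd : OmegaSh.IsUniversal d)
    {U : X.Opens} (hU : IsAffineOpen U) (hUW : U ≤ W) {V : S.Opens} (hV : IsAffineOpen V) (e : U ≤ f ⁻¹ᵁ V) :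
    (∃ b : Module.Basis (Fin n) Γ(X, U) Γ(Ω', U),
      ∀ j, b j = d.app U (LogNCD.sectOn W hUW (v ⟨j⟩))) ∧
    ∀ j, IsSMulRegular Γ(X, U) (LogNCD.sectOn W hUW (v ⟨j⟩)) := by
  let _ := (f.appLE V U e).hom.toAlgebra
  let ψ := MvPolynomial.aeval (R := Γ(S, V)) fun j => LogNCD.sectOn W hUW (v j)
  letI := ψ.toRingHom.toAlgebra
  haveI : Algebra.Etale (MvPolynomial (ULift.{u} (Fin n)) Γ(S, V)) Γ(X, U) :=
    etale_aeval hv hU hUW hV e
  haveI : IsScalarTower Γ(S, V) (MvPolynomial (ULift.{u} (Fin n)) Γ(S, V)) Γ(X, U) :=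
    IsScalarTower.of_algebraMap_eq fun r => (MvPolynomial.aeval_C _ r).symm
  obtain ⟨E, hE⟩ := exists_omega_equiv hd hU hV e
  refine ⟨⟨((((KaehlerDifferential.mvPolynomialBasis Γ(S, V) (ULift.{u} (Fin n))).baseChange Γ(X, U)).map
    (KaehlerDifferential.tensorKaehlerEquivOfFormallyEtale Γ(S, V)
      (MvPolynomial (ULift.{u} (Fin n)) Γ(S, V)) Γ(X, U))).map E.symm).reindex Equiv.ulift, fun j => ?_⟩, fun j => ?_⟩
  · rw [Module.Basis.reindex_apply, Module.Basis.map_apply, Module.Basis.map_apply,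
      Module.Basis.baseChange_apply, KaehlerDifferential.mvPolynomialBasis_apply,
      KaehlerDifferential.tensorKaehlerEquivOfFormallyEtale_apply, KaehlerDifferential.mapBaseChange_tmul,
      one_smul, KaehlerDifferential.map_D, LinearEquiv.symm_apply_eq, hE]
    exact congrArg _ (MvPolynomial.aeval_X _ _)
  · haveI : Module.Flat (MvPolynomial (ULift.{u} (Fin n)) Γ(S, V)) Γ(X, U) := inferInstance
    have hX : IsSMulRegular (MvPolynomial (ULift.{u} (Fin n)) Γ(S, V)) (MvPolynomial.X (⟨j⟩ : ULift (Fin n))) :=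
      (MvPolynomial.isRegular_X).left.isSMulRegular
    have h := hX.lTensor Γ(X, U)
    intro a b hab
    have : Function.Injective fun z : Γ(X, U) =>
        algebraMap (MvPolynomial (ULift.{u} (Fin n)) Γ(S, V)) Γ(X, U) (MvPolynomial.X ⟨j⟩) * z := by
      intro a b hab
      apply (TensorProduct.rid (MvPolynomial (ULift.{u} (Fin n)) Γ(S, V)) Γ(X, U)).symm.injective
      apply h
      show MvPolynomial.X _ • _ = MvPolynomial.X _ • _
      rw [← map_smul, ← map_smul, Algebra.smul_def, Algebra.smul_def]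
      exact congrArg _ hab
    refine this ?_
    show ψ (MvPolynomial.X _) * a = ψ (MvPolynomial.X _) * b
    rw [show ψ (MvPolynomial.X ⟨j⟩) = LogNCD.sectOn W hUW (v ⟨j⟩) from MvPolynomial.aeval_X _ _]
    exact hab

end Groth.Agent.H44LogNCD
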