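import Groth.Prelude.Def_LogNCD
import Groth.Agent.AModX.Res

/-! # Charts for the logarithmic differentials of a normal crossing divisor -/

universe u

open CategoryTheory CategoryTheory.Limits AlgebraicGeometry TopologicalSpace Opposite

set_option linter.style.haveILetI false
set_option backward.isDefEq.respectTransparency false

namespace Groth.Agent.H44LogNCD

open Groth.Agent.AModX

variable {X S : Scheme.{u}} {r : ℕ}

theorem ideal_eq_top_of_disjoint (I : X.IdealSheafData) (U : X.affineOpens)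
    (h : ∀ y ∈ U.1, y ∉ I.support) : I.ideal U = ⊤ := by
  by_contra hne
  obtain ⟨m, hm, hle⟩ := Ideal.exists_le_maximal _ hne
  let y := U.2.fromSpec ⟨m, hm.isPrime⟩
  have hy : y ∈ U.1 := U.2.range_fromSpec.le ⟨_, rfl⟩
  refine h y hy ((Scheme.IdealSheafData.mem_support_iff_of_mem hy).2 ?_)
  refine (Scheme.mem_zeroLocus_iff X _ _).2 fun a ha => ?_
  intro hb
  have : (⟨m, hm.isPrime⟩ : PrimeSpectrum Γ(X, U.1)) ∈ U.2.fromSpec ⁻¹ᵁ X.basicOpen a := hb
  rw [U.2.fromSpec_preimage_basicOpen] at this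
  exact this (hle ha)

theorem ideal_span_res (I : X.IdealSheafData) {U V : X.affineOpens} (h : V.1 ≤ U.1) {g : Γ(X, U.1)}
    (hg : I.ideal U = Ideal.span {g}) : I.ideal V = Ideal.span {resR h g} := by
  rw [← I.map_ideal (U := V) (V := U) h, hg, Ideal.map_span, Set.image_singleton]
  rfl

/-- Every point has arbitrarily small affine neighbourhoods on which all components are principal. -/
theorem exists_principal (D : Fin r → X.IdealSheafData) (f : X ⟶ S) (hD : LogNCD.IsNCD D f)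
    {x : X} {W : X.Opens} (hx : x ∈ W) :
    ∃ (U : X.affineOpens) (g : Fin r → Γ(X, U.1)), x ∈ U.1 ∧ U.1 ≤ W ∧
      ∀ i, (D i).ideal U = Ideal.span {g i} := by
  classical
  by_cases hth : Nonempty (LogNCD.Through D x)
  · obtain ⟨W', hxW', n, v, e, -, -, hin, hout⟩ := hD x hth
    obtain ⟨U, hU, hxU, hle⟩ := Opens.isBasis_iff_nbhd.mp X.isBasis_affineOpens
      (show x ∈ W ⊓ W' from ⟨hx, hxW'⟩)
    have hW' : U ≤ W' := hle.trans inf_le_right
    refine ⟨⟨U, hU⟩, fun i => if hi : x ∈ (D i).support then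
      LogNCD.sectOn W' hW' (v (ULift.up (e ⟨i, hi⟩))) else 1, hxU, hle.trans inf_le_left, fun i => ?_⟩
    by_cases hi : x ∈ (D i).support
    · simp only [dif_pos hi]; exact hin ⟨i, hi⟩ ⟨U, hU⟩ hW'
    · simp only [dif_neg hi]; rw [hout i hi ⟨U, hU⟩ hW', Ideal.span_singleton_one]
  · have hcl : IsClosed (⋃ i, ((D i).support : Set X)) := isClosed_iUnion_of_finite fun i => (D i).support.isClosed
    have hxc : x ∈ (⋃ i, ((D i).support : Set X))ᶜ := by
      simp only [Set.mem_compl_iff, Set.mem_iUnion, not_exists]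
      exact fun i hi => hth ⟨⟨i, hi⟩⟩
    obtain ⟨U, hU, hxU, hle⟩ := Opens.isBasis_iff_nbhd.mp X.isBasis_affineOpens
      (show x ∈ W ⊓ ⟨_, hcl.isOpen_compl⟩ from ⟨hx, hxc⟩)
    refine ⟨⟨U, hU⟩, fun _ => 1, hxU, hle.trans inf_le_left, fun i => ?_⟩
    rw [ideal_eq_top_of_disjoint _ _ fun y hy hyi => (hle hy).2 (Set.mem_iUnion.2 ⟨i, hyi⟩),
      Ideal.span_singleton_one]

variable {f : X ⟶ S} {Ω' : X.Modules} {d : OmegaSh.Der f Ω'} {D : Fin r → X.IdealSheafData}

theorem toSubscheme_surjective (I : X.IdealSheafData) (U : X.affineOpens) :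
    Function.Surjective ((ClSub.toSubscheme I).app U.1) :=
  I.subschemeι_app_surjective U

theorem toSubscheme_eq_zero_iff (I : X.IdealSheafData) (U : X.affineOpens) (a : Γ(X, U.1)) :
    (ClSub.toSubscheme I).app U.1 a = 0 ↔ a ∈ I.ideal U := by
  rw [← I.ker_subschemeι_app U, RingHom.mem_ker]
  rfl

theorem smul_oneOn (I : X.IdealSheafData) (U : X.Opens) (a : Γ(X, U)) :
    a • (show Γ(ClSub.quotMod I, U) from LogNCD.oneOn I U) = (ClSub.toSubscheme I).app U a := by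
  refine ((ClSub.toSubscheme I).app_smul a _).symm.trans ?_
  exact congrArg _ (mul_one a)

/-- The chart rule in the `Γ`-language. -/
theorem rule' (Λ : LogNCD.LogMod d D) {U : X.affineOpens} {g : Fin r → Γ(X, U.1)}
    (hg : ∀ i, (D i).ideal U = Ideal.span {g i}) :
    (∀ z : Γ(Λ.L, U.1), (∏ i, g i) • z = 0 → z = 0) ∧
    ∃ dl : Fin r → Γ(Λ.L, U.1),
      (∀ i, g i • dl i = Λ.ι.app U.1 (d.app U.1 (g i))) ∧
      (∀ z : Γ(Λ.L, U.1), ∃ (ω : Γ(Ω', U.1)) (c : Fin r → Γ(X, U.1)), z = Λ.ι.app U.1 ω + ∑ i, c i • dl i) ∧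
      (∀ i j, ∀ a : Γ(X, U.1), (Λ.res j).app U.1 (a • dl i) =
        if i = j then (ClSub.toSubscheme (D j)).app U.1 a else 0) := by
  classical
  obtain ⟨htf, dl, h1, h2, h3, h4⟩ := Λ.rule U g hg
  refine ⟨htf, dl, h1, fun z => ?_, fun i j a => ?_⟩
  · have hz : (show Λ.L.val.obj (op U.1) from z) ∈ Submodule.span Γ(X, U.1)
        (Set.range ((Λ.ι.val.app (op U.1)).hom) ∪ Set.range dl) := h2 ▸ Submodule.mem_top
    rw [Submodule.span_union, Submodule.mem_sup] at hz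
    obtain ⟨z₁, hz₁, z₂, hz₂, hzz⟩ := hz
    obtain ⟨c, hc⟩ := (Submodule.mem_span_range_iff_exists_fun _).1 hz₂
    have : ∃ ω : Γ(Ω', U.1), (show Γ(Λ.L, U.1) from z₁) = Λ.ι.app U.1 ω := by
      clear hzz hc hz₂
      induction hz₁ using Submodule.span_induction with
      | mem y hy => obtain ⟨ω, rfl⟩ := hy; exact ⟨ω, rfl⟩
      | zero => exact ⟨0, (map_zero _).symm⟩
      | add y y' _ _ a b =>
        obtain ⟨ω, hω⟩ := a; obtain ⟨ω', hω'⟩ := b
        exact ⟨ω + ω', (congrArg₂ (· + ·) hω hω').trans (map_add _ _ _).symm⟩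
      | smul t y _ a =>
        obtain ⟨ω, hω⟩ := a
        exact ⟨t • ω, (congrArg (t • ·) hω).trans (Scheme.Modules.Hom.app_smul Λ.ι t ω).symm⟩
    obtain ⟨ω, hω⟩ := this
    exact ⟨ω, c, hzz.symm.trans (congrArg₂ (· + ·) hω hc.symm)⟩
  · rw [Scheme.Modules.Hom.app_smul]
    split_ifs with hij
    · subst hij
      rw [show (Λ.res i).app U.1 (dl i) = (show Γ(ClSub.quotMod (D i), U.1) from LogNCD.oneOn (D i) U.1) from h3 i,
        smul_oneOn]
    · rw [show (Λ.res j).app U.1 (dl i) = 0 from h4 i j hij, smul_zero]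

theorem res_ι_app (Λ : LogNCD.LogMod d D) (i : Fin r) {U : X.Opens} (ω : Γ(Ω', U)) :
    (Λ.res i).app U (Λ.ι.app U ω) = 0 :=
  congrArg (fun φ : Ω' ⟶ ClSub.quotMod (D i) => φ.app U ω) (Λ.res_ι i)

theorem res_sum (Λ : LogNCD.LogMod d D) {U : X.affineOpens} {dl : Fin r → Γ(Λ.L, U.1)}
    (hdl : ∀ i j, ∀ a : Γ(X, U.1), (Λ.res j).app U.1 (a • dl i) =
      if i = j then (ClSub.toSubscheme (D j)).app U.1 a else 0)
    (ω : Γ(Ω', U.1)) (c : Fin r → Γ(X, U.1)) (j : Fin r) :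
    (Λ.res j).app U.1 (Λ.ι.app U.1 ω + ∑ i, c i • dl i) = (ClSub.toSubscheme (D j)).app U.1 (c j) := by
  classical
  rw [map_add, res_ι_app, zero_add, map_sum]
  simp only [hdl, Finset.sum_ite_eq', Finset.mem_univ, if_true]

end Groth.Agent.H44LogNCD
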