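import Groth.Agent.H44LogNCD.Frame
import Groth.Agent.QCoh.LocFree
import Mathlib.AlgebraicGeometry.Morphisms.Smooth
import Mathlib.RingTheory.RingHom.StandardSmooth
import Mathlib.RingTheory.Smooth.StandardSmoothCotangent
import Mathlib.LinearAlgebra.Dimension.StrongRankCondition

/-! # The log differentials of a smooth morphism along a normal crossing divisor are free near every point -/

universe u

open CategoryTheory CategoryTheory.Limits AlgebraicGeometry TopologicalSpace Opposite

set_option linter.style.haveILetI false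
set_option backward.isDefEq.respectTransparency false

namespace Groth.Agent.H44LogNCD

variable {X S : Scheme.{u}} {f : X ⟶ S} {Ω' : X.Modules} {d : OmegaSh.Der f Ω'} {r : ℕ}
  {D : Fin r → X.IdealSheafData}

/-- The derivation kills one. -/
theorem d_app_one (U : X.Opens) : d.app U (1 : Γ(X, U)) = 0 := d.d_one (X := op U)

/-- A basis adapted to the equations gives a basis of the log differentials. -/
theorem exists_log_basis (Λ : LogNCD.LogMod d D) {U : X.affineOpens} {g : Fin r → Γ(X, U.1)}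
    (hg : ∀ i, (D i).ideal U = Ideal.span {g i}) {n : ℕ} (b : Module.Basis (Fin n) Γ(X, U.1) Γ(Ω', U.1))
    {T : Type*} (toF : T → Fin r) (e : T → Fin n) (he : Function.Injective e)
    (hcoord : ∀ t, d.app U.1 (g (toF t)) = b (e t)) (hreg : ∀ t, IsSMulRegular Γ(X, U.1) (g (toF t)))
    (hone : ∀ i, (∀ t, toF t ≠ i) → g i = 1) :
    Nonempty (Module.Basis (Fin n) Γ(X, U.1) Γ(Λ.L, U.1)) := by
  classical
  obtain ⟨-, dl, hdl, hgen, -⟩ := rule' Λ hg
  let B : Fin n → Γ(Λ.L, U.1) := Function.extend e (fun t => dl (toF t)) fun j => Λ.ι.app U.1 (b j)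
  let w : Fin n → Γ(X, U.1) := Function.extend e (fun t => g (toF t)) fun _ => 1
  have hwB : ∀ j, w j • B j = Λ.ι.app U.1 (b j) := fun j => by
    by_cases h : ∃ t, e t = j
    · obtain ⟨t, rfl⟩ := h
      simp only [B, w, he.extend_apply]
      rw [hdl, hcoord]
    · simp only [B, w, Function.extend_apply' _ _ _ h, one_smul]
  have hwreg : ∀ j, IsSMulRegular Γ(X, U.1) (w j) := fun j => by
    by_cases h : ∃ t, e t = j
    · obtain ⟨t, rfl⟩ := h; simp only [w, he.extend_apply]; exact hreg t
    · simp only [w, Function.extend_apply' _ _ _ h]; exact IsSMulRegular.one Γ(X, U.1)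
  have hli : LinearIndependent Γ(X, U.1) B := by
    rw [Fintype.linearIndependent_iff]
    intro c hc j
    have h1 : Λ.ι.app U.1 (∑ k, (c k * ∏ l ∈ Finset.univ.erase k, w l) • b k) = 0 := by
      rw [map_sum, ← smul_zero (∏ l, w l : Γ(X, U.1)), ← hc, Finset.smul_sum]
      refine Finset.sum_congr rfl fun k _ => ?_
      rw [Scheme.Modules.Hom.app_smul, ← hwB, smul_smul, smul_smul,
        ← Finset.mul_prod_erase _ _ (Finset.mem_univ k)]
      congr 1
      ring
    haveI := Λ.mono
    have h2 := Fintype.linearIndependent_iff.1 b.linearIndependent _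
      (QCoh.app_injective Λ.ι U.1 (h1.trans (map_zero _).symm)) j
    have hP : IsSMulRegular Γ(X, U.1) (∏ l ∈ Finset.univ.erase j, w l) :=
      Finset.prod_induction _ (fun a => IsSMulRegular Γ(X, U.1) a) (fun _ _ => IsSMulRegular.mul)
        (IsSMulRegular.one Γ(X, U.1)) fun l _ => hwreg l
    exact hP (by simpa [mul_comm] using h2)
  have hsp : ⊤ ≤ Submodule.span Γ(X, U.1) (Set.range B) := by
    intro z _
    obtain ⟨ω, c, rfl⟩ := hgen z
    refine Submodule.add_mem _ ?_ (Submodule.sum_mem _ fun i _ => Submodule.smul_mem _ _ ?_)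
    · rw [← b.sum_repr ω, map_sum]
      refine Submodule.sum_mem _ fun j _ => ?_
      rw [Scheme.Modules.Hom.app_smul, ← hwB]
      exact Submodule.smul_mem _ _ (Submodule.smul_mem _ _ (Submodule.subset_span ⟨j, rfl⟩))
    · by_cases h : ∃ t, toF t = i
      · obtain ⟨t, rfl⟩ := h
        exact Submodule.subset_span ⟨e t, he.extend_apply _ _ t⟩
      · push Not at h
        have h0 : dl i = 0 := by
          have := hdl i
          rwa [hone i h, one_smul, d_app_one, map_zero] at this
        rw [h0]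
        exact Submodule.zero_mem _
  exact ⟨Module.Basis.mk hli hsp⟩

/-- Near every point the log differentials are free of rank the relative dimension. -/
theorem exists_free_nhd (n : ℕ) [SmoothOfRelativeDimension n f] (hd : OmegaSh.IsUniversal d)
    (hD : LogNCD.IsNCD D f) (Λ : LogNCD.LogMod d D) (x : X) :
    ∃ U : X.affineOpens, x ∈ U.1 ∧ Nonempty (Module.Basis (Fin n) Γ(X, U.1) Γ(Λ.L, U.1)) := by
  classical
  obtain ⟨V, hV, U₀, hU₀, hxU₀, e₀, hstd⟩ :=
    SmoothOfRelativeDimension.exists_isStandardSmoothOfRelativeDimension (n := n) (f := f) x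
  have aux : ∀ (a : Γ(X, U₀)), x ∈ X.basicOpen a →
      Nonempty (Module.Basis (Fin n) Γ(X, X.basicOpen a) Γ(Ω', X.basicOpen a)) := by
    intro a hxa
    let φ := (f.appLE V (X.basicOpen a) ((X.basicOpen_le a).trans e₀)).hom
    have hφ : φ.IsStandardSmoothOfRelativeDimension n := by
      letI := (X.presheaf.map (homOfLE (X.basicOpen_le a)).op).hom.toAlgebra
      haveI : IsLocalization.Away a Γ(X, X.basicOpen a) := hU₀.isLocalization_basicOpen a
      have h := RingHom.isStandardSmoothOfRelativeDimension_stableUnderCompositionWithLocalizationAway n |>.right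
        (T := Γ(X, X.basicOpen a)) a _ hstd
      convert! h using 1
      exact congrArg CommRingCat.Hom.hom (Scheme.Hom.appLE_map f e₀ (homOfLE (X.basicOpen_le a)).op).symm
    letI := φ.toAlgebra
    haveI : Algebra.IsStandardSmoothOfRelativeDimension n Γ(S, V) Γ(X, X.basicOpen a) := hφ
    haveI : Nontrivial Γ(X, X.basicOpen a) := (X.presheaf.germ _ x hxa).hom.domain_nontrivial
    haveI := Algebra.IsStandardSmoothOfRelativeDimension.isStandardSmooth n (R := Γ(S, V)) (S := Γ(X, X.basicOpen a))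
    obtain ⟨E, -⟩ := exists_omega_equiv hd (hU₀.basicOpen a) hV ((X.basicOpen_le a).trans e₀)
    have hr : Module.finrank Γ(X, X.basicOpen a) (Ω[Γ(X, X.basicOpen a)⁄Γ(S, V)]) = n :=
      Module.finrank_eq_of_rank_eq (Algebra.IsStandardSmoothOfRelativeDimension.rank_kaehlerDifferential n)
    exact ⟨(Module.finBasisOfFinrankEq _ _ hr).map E.symm⟩
  by_cases hth : Nonempty (LogNCD.Through D x)
  · obtain ⟨W, hxW, n', v, e, he, hv, hin, hout⟩ := hD x hth
    obtain ⟨a, ha, hxa⟩ := hU₀.exists_basicOpen_le ⟨x, hxW⟩ hxU₀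
    obtain ⟨b₀⟩ := aux a hxa
    obtain ⟨⟨b, hb⟩, hreg⟩ := exists_basis_of_etale hv hd (hU₀.basicOpen a) ha hV ((X.basicOpen_le a).trans e₀)
    haveI : Nontrivial Γ(X, X.basicOpen a) := (X.presheaf.germ _ x hxa).hom.domain_nontrivial
    let σ : Fin n' ≃ Fin n := b.indexEquiv b₀
    refine ⟨⟨_, hU₀.basicOpen a⟩, hxa, ?_⟩
    have := exists_log_basis (U := ⟨_, hU₀.basicOpen a⟩) Λ
      (g := fun i => if hi : x ∈ (D i).support then LogNCD.sectOn W ha (v ⟨e ⟨i, hi⟩⟩) else 1)
      (fun i => by
        by_cases hi : x ∈ (D i).support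
        · rw [dif_pos hi]; exact hin ⟨i, hi⟩ ⟨_, hU₀.basicOpen a⟩ ha
        · rw [dif_neg hi, hout i hi ⟨_, hU₀.basicOpen a⟩ ha, Ideal.span_singleton_one])
      b (T := LogNCD.Through D x) (fun t => t.1) e he
      (fun t => by rw [dif_pos t.2]; exact (hb _).symm)
      (fun t => by rw [dif_pos t.2]; exact hreg _)
      fun i h => dif_neg fun hi => h ⟨i, hi⟩ rfl
    exact this.map fun B => B.reindex σ
  · obtain ⟨U', g', hxU', -, -⟩ := exists_principal D f hD (show x ∈ U₀ from hxU₀)
    have hcl : IsClosed (⋃ i, ((D i).support : Set X)) :=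
      isClosed_iUnion_of_finite fun i => (D i).support.isClosed
    have hxc : x ∈ (⟨_, hcl.isOpen_compl⟩ : X.Opens) := by
      show x ∈ (⋃ i, ((D i).support : Set X))ᶜ
      simp only [Set.mem_compl_iff, Set.mem_iUnion, not_exists]
      exact fun i hi => hth ⟨⟨i, hi⟩⟩
    obtain ⟨a, ha, hxa⟩ := hU₀.exists_basicOpen_le ⟨x, hxc⟩ hxU₀
    obtain ⟨b₀⟩ := aux a hxa
    refine ⟨⟨_, hU₀.basicOpen a⟩, hxa, exists_log_basis (U := ⟨_, hU₀.basicOpen a⟩) Λ (g := fun _ => 1)
      (fun i => ?_) b₀ (T := PEmpty.{1}) PEmpty.elim PEmpty.elim (fun t => t.elim) (fun t => t.elim)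
      (fun t => t.elim) fun _ _ => rfl⟩
    rw [ideal_eq_top_of_disjoint _ _ fun y hy hyi => ha hy (Set.mem_iUnion.2 ⟨i, hyi⟩), Ideal.span_singleton_one]

end Groth.Agent.H44LogNCD
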