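import Groth.Agent.H44LogNCD.SubLog
import Groth.Agent.Synt29.OmegaRestrict
import Groth.Agent.LimitsH94.GlueHom

/-! # Pull-back of logarithmic differentials along a morphism -/

universe u

open CategoryTheory CategoryTheory.Limits AlgebraicGeometry TopologicalSpace Opposite

set_option linter.style.haveILetI false
set_option backward.isDefEq.respectTransparency false

namespace Groth.Agent.H44LogNCD

open Groth.Agent.AModX

variable {X Y S : Scheme.{u}} (π : Y ⟶ X) {f : X ⟶ S} {r s : ℕ}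
  {ΩX : X.Modules} {dX : OmegaSh.Der f ΩX} {ΩY : Y.Modules} (dY : OmegaSh.Der (π ≫ f) ΩY)

/-- The derivation `a ↦ d(π♯ a)`. -/
noncomputable def pushDerY : OmegaSh.Der f ((Scheme.Modules.pushforward π).obj ΩY) where
  d {W} :=
    { toFun := fun a => dY.app (π ⁻¹ᵁ W.unop) (π.app W.unop a)
      map_zero' := by
        show dY.app (π ⁻¹ᵁ W.unop) (π.app W.unop 0) = 0
        rw [map_zero, map_zero]
      map_add' := fun a b => by
        show dY.app (π ⁻¹ᵁ W.unop) (π.app W.unop (a + b)) = _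
        rw [map_add, map_add] }
  d_mul {W} a b := by
    show dY.app (π ⁻¹ᵁ W.unop) (π.app W.unop (a * b)) =
      π.app W.unop a • dY.app (π ⁻¹ᵁ W.unop) (π.app W.unop b) +
        π.app W.unop b • dY.app (π ⁻¹ᵁ W.unop) (π.app W.unop a)
    rw [map_mul, Synt29.OmegaStalk.app_mul]
  d_map {W V} i a := by
    show dY.app (π ⁻¹ᵁ V.unop) (π.app V.unop (X.presheaf.map i a)) =
      ΩY.presheaf.map ((TopologicalSpace.Opens.map π.base).map i.unop).op
        (dY.app (π ⁻¹ᵁ W.unop) (π.app W.unop a))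
    rw [← Synt29.OmegaStalk.app_res]
    exact congrArg _ (congr($(π.naturality i) a))
  d_app {V} c := Synt29.OmegaStalk.app_base ΩY dY V.unop c

theorem exists_pullΩ (hd : OmegaSh.IsUniversal dX) :
    ∃ α : ΩX ⟶ (Scheme.Modules.pushforward π).obj ΩY,
      ∀ (W : X.Opens) (a : Γ(X, W)), (show Γ(ΩY, π ⁻¹ᵁ W) from α.app W (dX.app W a)) =
        dY.app (π ⁻¹ᵁ W) (π.app W a) := by
  obtain ⟨α, hα, -⟩ := hd _ (pushDerY π dY)
  exact ⟨α, fun W a => PresheafOfModules.Derivation.congr_d hα a⟩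

variable {π dY} {D : Fin r → X.IdealSheafData} {Δ : Fin s → Y.IdealSheafData}
  (ΛX : LogNCD.LogMod dX D) (ΛY : LogNCD.LogMod dY Δ)
  (α : ΩX ⟶ (Scheme.Modules.pushforward π).obj ΩY)

/-- A value of the pull-back of forms. -/
noncomputable def pullAt (W : X.Opens) (ω : Γ(ΩX, W)) : Γ(ΩY, π ⁻¹ᵁ W) := α.app W ω

theorem pullAt_res {W W' : X.Opens} (h : W' ≤ W) (ω : Γ(ΩX, W)) :
    pullAt α W' (res ΩX h ω) = res ΩY (π.preimage_mono h) (pullAt α W ω) :=
  AModX.app_res α h ω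

theorem pullAt_smul {W : X.Opens} (t : Γ(X, W)) (ω : Γ(ΩX, W)) :
    pullAt α W (t • ω) = π.app W t • pullAt α W ω :=
  Scheme.Modules.Hom.app_smul α t ω

theorem pullAt_add {W : X.Opens} (ω ω' : Γ(ΩX, W)) :
    pullAt α W (ω + ω') = pullAt α W ω + pullAt α W ω' := map_add _ _ _

/-- `w` is the pull-back of the logarithmic form `z`, computed with the equations `g`. -/
def PRel (U : X.Opens) (g : Fin r → Γ(X, U)) (z : Γ(ΛX.L, U)) (w : Γ(ΛY.L, π ⁻¹ᵁ U)) : Prop :=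
  ∃ ω : Γ(ΩX, U), (∏ i, g i) • z = ΛX.ι.app U ω ∧
    π.app U (∏ i, g i) • w = ΛY.ι.app (π ⁻¹ᵁ U) (pullAt α U ω)

/-- The pulled back equations act regularly. -/
def PullReg : Prop := ∀ (U : X.affineOpens) (g : Fin r → Γ(X, U.1)), (∀ i, (D i).ideal U = Ideal.span {g i}) →
  ∀ (W : X.Opens) (h : W ≤ U.1) (z : Γ(ΛY.L, π ⁻¹ᵁ W)), π.app W (resR h (∏ i, g i)) • z = 0 → z = 0

/-- The affine opens on which the pull-back is computed. -/
def PullGood (U : X.affineOpens) : Prop :=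
  ∃ g : Fin r → Γ(X, U.1), (∀ i, (D i).ideal U = Ideal.span {g i}) ∧
    ∀ i, ∃ w : Γ(ΛY.L, π ⁻¹ᵁ U.1),
      π.app U.1 (g i) • w = ΛY.ι.app (π ⁻¹ᵁ U.1) (dY.app (π ⁻¹ᵁ U.1) (π.app U.1 (g i)))

variable {ΛX ΛY α}

theorem prel_unique (hreg : PullReg ΛY (D := D)) {U : X.affineOpens} {g : Fin r → Γ(X, U.1)}
    (hg : ∀ i, (D i).ideal U = Ideal.span {g i}) {z : Γ(ΛX.L, U.1)} {w w' : Γ(ΛY.L, π ⁻¹ᵁ U.1)}
    (h : PRel ΛX ΛY α U.1 g z w) (h' : PRel ΛX ΛY α U.1 g z w') : w = w' := by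
  obtain ⟨ω, a, b⟩ := h
  obtain ⟨ω', a', b'⟩ := h'
  haveI := ΛX.mono
  have he : ω = ω' := QCoh.app_injective ΛX.ι U.1 (a.symm.trans a')
  refine sub_eq_zero.1 (hreg U g hg U.1 le_rfl _ ?_)
  rw [resR_self, smul_sub, b, b', he, sub_self]

theorem prel_of_dvd {U : X.Opens} {g g' : Fin r → Γ(X, U)} (b : Γ(X, U)) (hb : ∏ i, g' i = b * ∏ i, g i)
    {z : Γ(ΛX.L, U)} {w : Γ(ΛY.L, π ⁻¹ᵁ U)} (h : PRel ΛX ΛY α U g z w) : PRel ΛX ΛY α U g' z w := by
  obtain ⟨ω, a, c⟩ := h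
  refine ⟨b • ω, ?_, ?_⟩
  · rw [hb, mul_smul, a, Scheme.Modules.Hom.app_smul]
  · rw [hb, map_mul, mul_smul, c, pullAt_smul, Scheme.Modules.Hom.app_smul]

theorem prel_change {U : X.affineOpens} {g g' : Fin r → Γ(X, U.1)}
    (hg : ∀ i, (D i).ideal U = Ideal.span {g i}) (hg' : ∀ i, (D i).ideal U = Ideal.span {g' i})
    {z : Γ(ΛX.L, U.1)} {w : Γ(ΛY.L, π ⁻¹ᵁ U.1)} (h : PRel ΛX ΛY α U.1 g z w) : PRel ΛX ΛY α U.1 g' z w := by
  have hb : ∀ i, ∃ b, g' i = b * g i := fun i => by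
    obtain ⟨b, hb⟩ := Ideal.mem_span_singleton'.1
      (show g' i ∈ Ideal.span {g i} from hg i ▸ (hg' i).symm ▸ Ideal.mem_span_singleton_self _)
    exact ⟨b, hb.symm⟩
  choose b hb using hb
  refine prel_of_dvd (∏ i, b i) ?_ h
  rw [← Finset.prod_mul_distrib]
  exact Finset.prod_congr rfl fun i _ => hb i

theorem prel_res {U W : X.Opens} (h : W ≤ U) {g : Fin r → Γ(X, U)} {z : Γ(ΛX.L, U)}
    {w : Γ(ΛY.L, π ⁻¹ᵁ U)} (hr : PRel ΛX ΛY α U g z w) :
    PRel ΛX ΛY α W (fun i => resR h (g i)) (res _ h z) (res ΛY.L (π.preimage_mono h) w) := by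
  obtain ⟨ω, a, b⟩ := hr
  refine ⟨res _ h ω, ?_, ?_⟩
  · rw [← map_prod, ← res_smul, a, AModX.app_res]
  · rw [← map_prod, pullAt_res, AModX.app_res, ← b, res_smul]
    congr 1
    exact congr($(π.naturality (homOfLE h).op) (∏ i, g i))

theorem exists_prel (hα : ∀ (W : X.Opens) (a : Γ(X, W)), pullAt α W (dX.app W a) = dY.app (π ⁻¹ᵁ W) (π.app W a))
    {U : X.affineOpens} {g : Fin r → Γ(X, U.1)} (hg : ∀ i, (D i).ideal U = Ideal.span {g i})
    (hw : ∀ i, ∃ w : Γ(ΛY.L, π ⁻¹ᵁ U.1),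
      π.app U.1 (g i) • w = ΛY.ι.app (π ⁻¹ᵁ U.1) (dY.app (π ⁻¹ᵁ U.1) (π.app U.1 (g i))))
    (z : Γ(ΛX.L, U.1)) : ∃ w, PRel ΛX ΛY α U.1 g z w := by
  classical
  obtain ⟨-, dl, hdl, hgen, -⟩ := rule' ΛX hg
  choose wd hwd using hw
  obtain ⟨ω, c, rfl⟩ := hgen z
  let P : Fin r → Γ(X, U.1) := fun k => ∏ j ∈ Finset.univ.erase k, g j
  refine ⟨ΛY.ι.app _ (pullAt α U.1 ω) + ∑ k, π.app U.1 (c k) • wd k,
    (∏ j, g j) • ω + ∑ k, (P k * c k) • dX.app U.1 (g k), ?_, ?_⟩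
  · rw [smul_add, Finset.smul_sum, map_add, map_sum, Scheme.Modules.Hom.app_smul]
    congr 1
    refine Finset.sum_congr rfl fun k _ => ?_
    rw [Scheme.Modules.Hom.app_smul, ← hdl, smul_smul, smul_smul, ← Finset.mul_prod_erase _ _ (Finset.mem_univ k)]
    congr 1
    simp only [P]
    ring
  · have hsum : pullAt α U.1 (∑ k, (P k * c k) • dX.app U.1 (g k)) =
        ∑ k, π.app U.1 (P k * c k) • dY.app (π ⁻¹ᵁ U.1) (π.app U.1 (g k)) := by
      refine (map_sum (α.app U.1).hom _ _).trans (Finset.sum_congr rfl fun k _ => ?_)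
      exact (pullAt_smul α _ _).trans (by rw [hα])
    rw [smul_add, Finset.smul_sum, pullAt_add, pullAt_smul, hsum, map_add, map_sum,
      Scheme.Modules.Hom.app_smul]
    congr 1
    refine Finset.sum_congr rfl fun k _ => ?_
    rw [Scheme.Modules.Hom.app_smul, ← hwd, smul_smul, smul_smul, ← map_mul, ← map_mul,
      ← Finset.mul_prod_erase _ _ (Finset.mem_univ k)]
    congr 2
    simp only [P]
    ring

theorem pullGood_mono {U W : X.affineOpens} (h : W.1 ≤ U.1) (hU : PullGood ΛY (D := D) U) :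
    PullGood ΛY (D := D) W := by
  obtain ⟨g, hg, hw⟩ := hU
  refine ⟨fun i => resR h (g i), fun i => ideal_span_res (D i) h (hg i), fun i => ?_⟩
  obtain ⟨w, hw⟩ := hw i
  refine ⟨res ΛY.L (π.preimage_mono h) w, ?_⟩
  have e : π.app W.1 (resR h (g i)) = resR (π.preimage_mono h) (π.app U.1 (g i)) :=
    congr($(π.naturality (homOfLE h).op) (g i))
  rw [e, ← res_smul, hw, ← AModX.app_res]
  congr 1
  exact (Synt29.OmegaStalk.app_res ΩY dY (homOfLE (π.preimage_mono h)) _).symm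

/-- The pull-back of logarithmic differentials. -/
theorem exists_pullLog (hα : ∀ (W : X.Opens) (a : Γ(X, W)), pullAt α W (dX.app W a) = dY.app (π ⁻¹ᵁ W) (π.app W a))
    (hreg : PullReg ΛY (D := D)) (hcov : ∀ x : X, ∃ U, PullGood ΛY (D := D) U ∧ x ∈ U.1) :
    ∃ Φ : ΛX.L ⟶ (Scheme.Modules.pushforward π).obj ΛY.L,
      ∀ (U : X.affineOpens) (g : Fin r → Γ(X, U.1)), PullGood ΛY (D := D) U →
        (∀ i, (D i).ideal U = Ideal.span {g i}) → ∀ z, PRel ΛX ΛY α U.1 g z (Φ.app U.1 z) := by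
  classical
  have hex : ∀ (U : X.affineOpens) (hU : PullGood ΛY (D := D) U) (z : Γ(ΛX.L, U.1)),
      ∃ w, PRel ΛX ΛY α U.1 hU.choose z w := fun U hU z =>
    exists_prel hα hU.choose_spec.1 hU.choose_spec.2 z
  choose w hw using hex
  let F : ∀ U : X.affineOpens, PullGood ΛY (D := D) U →
      (Γ(ΛX.L, U.1) →ₗ[Γ(X, U.1)] Γ((Scheme.Modules.pushforward π).obj ΛY.L, U.1)) := fun U hU =>
    { toFun := fun z => w U hU z
      map_add' := fun a b => prel_unique hreg hU.choose_spec.1 (hw U hU (a + b)) <| by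
        obtain ⟨ω, p, q⟩ := hw U hU a
        obtain ⟨ω', p', q'⟩ := hw U hU b
        exact ⟨ω + ω', by rw [smul_add, p, p', map_add],
          by rw [pullAt_add, map_add, ← q, ← q']; exact smul_add _ _ _⟩
      map_smul' := fun t a => prel_unique hreg hU.choose_spec.1 (hw U hU (t • a)) <| by
        obtain ⟨ω, p, q⟩ := hw U hU a
        refine ⟨t • ω, by rw [smul_comm, p, Scheme.Modules.Hom.app_smul], ?_⟩
        rw [pullAt_smul, Scheme.Modules.Hom.app_smul, ← q]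
        exact smul_comm _ (π.app U.1 t) _ }
  obtain ⟨Φ, hΦ⟩ := LimitsH94.GlueHom.exists_hom_of_basis (M := ΛX.L)
    (N := (Scheme.Modules.pushforward π).obj ΛY.L) (PullGood ΛY (D := D))
    (fun U W h hU => pullGood_mono h hU) hcov F (fun U W hU hW h z =>
      prel_unique hreg hW.choose_spec.1
        (prel_change (fun i => ideal_span_res (D i) h (hU.choose_spec.1 i)) hW.choose_spec.1
          (prel_res h (hw U hU z))) (hw W hW _))
  refine ⟨Φ, fun U g hU hg z => ?_⟩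
  rw [hΦ U hU z]
  exact prel_change hU.choose_spec.1 hg (hw U hU z)

end Groth.Agent.H44LogNCD
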