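import Groth.Agent.H44LogNCD.Basic
import Groth.Agent.SheafHomX.Smul
import Groth.Agent.RelTildeX.SheafCrit
import Groth.Agent.QCoh.LocFree
import Groth.Agent.QCoh.VanIdeal
import Groth.Prelude.Def_LogNCD2

/-! # Residues of logarithmic connections -/

universe u

open CategoryTheory CategoryTheory.Limits AlgebraicGeometry TopologicalSpace Opposite

set_option linter.style.haveILetI false
set_option backward.isDefEq.respectTransparency false
set_option backward.isDefEq.respectTransparency.types false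

namespace Groth.Agent.H44LogNCD

variable {X S : Scheme.{u}} {f : X ⟶ S} {Ω' : X.Modules} {d : OmegaSh.Der f Ω'} {r : ℕ}
  {D : Fin r → X.IdealSheafData}

/-- On affine opens the ideal kills `E ⊗ O_Z`. -/
theorem smul_tensor_quotMod_eq_zero {E : X.Modules} (hE : Coh.IsQCoh E) (I : X.IdealSheafData)
    (V : X.affineOpens) (a : Γ(X, V.1)) (ha : (ClSub.toSubscheme I).app V.1 a = 0)
    (z : Γ(CohB1.tensorMod E (ClSub.quotMod I), V.1)) : a • z = 0 := by
  have hq : Coh.IsQCoh (ClSub.quotMod I) := QCoh.isQCoh_pushforward I.subschemeι QCoh.isQCoh_structureModule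
  obtain ⟨w, rfl⟩ := (QCoh.bijective_tmLin hE hq V.2).2 z
  show a • QCoh.tmLin E (ClSub.quotMod I) V.1 w = 0
  induction w using TensorProduct.induction_on with
  | zero => rw [map_zero, smul_zero]
  | add x y hx hy => rw [map_add, smul_add, hx, hy, add_zero]
  | tmul e q =>
    obtain ⟨b, rfl⟩ := toSubscheme_surjective I V q
    rw [← map_smul, ← TensorProduct.tmul_smul]
    have hab : a • (ClSub.toSubscheme I).app V.1 b = 0 := by
      rw [← Scheme.Modules.Hom.app_smul]
      show (ClSub.toSubscheme I).app V.1 ((a : Γ(X, V.1)) * (show Γ(X, V.1) from b)) = 0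
      rw [mul_comm]
      refine (Scheme.Modules.Hom.app_smul (ClSub.toSubscheme I) (show Γ(X, V.1) from b) a).trans ?_
      rw [ha, smul_zero]
    rw [hab, TensorProduct.tmul_zero, map_zero]

variable (Λ : LogNCD.LogMod d D) (E : X.Modules)
  (nabla : Coh.toAb E ⟶ Coh.toAb (CohB1.tensorMod E Λ.L)) (hc : ConnSh.IsConn (LogNCD.der Λ) E nabla) (i : Fin r)

include hc in
theorem res_nabla_smul (U : X.Opens) (t : Γ(X, U)) (e : Γ(E, U)) :
    (KoszTw.tensorMap (𝟙 E) (Λ.res i)).app U (ConnSh.secApp nabla U (t • e)) =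
      t • (KoszTw.tensorMap (𝟙 E) (Λ.res i)).app U (ConnSh.secApp nabla U e) := by
  rw [show ConnSh.secApp nabla U (t • e) = _ from hc U t e]
  refine (map_add ((KoszTw.tensorMap (𝟙 E) (Λ.res i)).app U).hom _ _).trans ?_
  have h : (KoszTw.tensorMap (𝟙 E) (Λ.res i)).app U
      (SecTwist.tmul E Λ.L U e ((LogNCD.der Λ).app U t)) = 0 := by
    rw [KoszTw.tensorMap_tmul, show (Λ.res i).app U ((LogNCD.der Λ).app U t) = 0 from
      res_ι_app Λ i (d.app U t)]
    exact (QCoh.tmS_smul_right E (ClSub.quotMod (D i)) (0 : Γ(X, U)) e 0).trans (zero_smul _ _) |>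
      (congrArg (QCoh.tmS E (ClSub.quotMod (D i)) e) (zero_smul Γ(X, U) (0 : Γ(ClSub.quotMod (D i), U))).symm).trans
  exact (congrArg₂ (· + ·) (Scheme.Modules.Hom.app_smul _ t _) h).trans (add_zero _)

/-- The residue as a linear map. -/
noncomputable def residue : E ⟶ CohB1.tensorMod E (ClSub.quotMod (D i)) where
  val := PresheafOfModules.homMk
    ((ObjectProperty.ι _).map (nabla ≫ (SheafOfModules.toSheaf X.ringCatSheaf).map
      (KoszTw.tensorMap (𝟙 E) (Λ.res i))))
    fun U t e => res_nabla_smul Λ E nabla hc i U.unop t e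

include hc in
theorem exists_residue (hE : Coh.IsQCoh E) :
    ∃ ρ : E ⟶ CohB1.tensorMod E (ClSub.quotMod (D i)), LogNCD.IsResidue Λ E nabla i ρ ∧
      ∃ R : CohB1.tensorMod E (ClSub.quotMod (D i)) ⟶ CohB1.tensorMod E (ClSub.quotMod (D i)),
        (SecTwist.unitorR E).inv ≫ KoszTw.tensorMap (𝟙 E) (ClSub.toSubscheme (D i)) ≫ R = ρ := by
  let ρ := residue Λ E nabla hc i
  refine ⟨ρ, rfl, ?_⟩
  let I := D i
  let T : ShortComplex X.Modules :=
    ShortComplex.mk (ClSub.idealModι I) (ClSub.toSubscheme I) (kernel.condition _)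
  haveI : Epi T.g := RelTildeX.epi_of_locally _ fun W s x hx => by
    obtain ⟨V, hV, hxV, hle⟩ := Opens.isBasis_iff_nbhd.mp X.isBasis_affineOpens hx
    obtain ⟨t, ht⟩ := toSubscheme_surjective I ⟨V, hV⟩ ((ClSub.quotMod I).presheaf.map (homOfLE hle).op s)
    exact ⟨V, hle, hxV, t, ht⟩
  have hT : T.Exact := ShortComplex.exact_of_f_is_kernel _ (kernelIsKernel _)
  haveI : PreservesColimitsOfSize.{u, u} ((DCoh.tensorBi (X := X)).obj E) :=
    ⟨fun {K} _ => preservesColimitsOfShape_of_natIso ((KFlatLib.tensorBiFlipIso X).app E)⟩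
  haveI : PreservesFiniteColimits ((DCoh.tensorBi (X := X)).obj E) :=
    PreservesColimitsOfSize.preservesFiniteColimits _
  have hTE := hT.map_of_epi_of_preservesCokernel ((DCoh.tensorBi (X := X)).obj E) inferInstance inferInstance
  haveI : Epi (T.map ((DCoh.tensorBi (X := X)).obj E)).g := ((DCoh.tensorBi (X := X)).obj E).map_epi T.g
  have hz : ((DCoh.tensorBi (X := X)).obj E).map (ClSub.idealModι I) ≫ (SecTwist.unitorR E).hom ≫ ρ = 0 := by
    refine SheafHomX.tensor_hom_ext fun U s t => AModX.eq_of_locally _ _ fun x hx => ?_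
    obtain ⟨V, hV, hxV, hle⟩ := Opens.isBasis_iff_nbhd.mp X.isBasis_affineOpens hx
    refine ⟨V, hle, hxV, ?_⟩
    rw [← AModX.app_res, ← AModX.app_res]
    have hst : AModX.res ((DCoh.tensorBi.obj E).obj (ClSub.idealMod I)) hle (QCoh.tmS E (ClSub.idealMod I) s t) =
      QCoh.tmS E _ (AModX.res E hle s) (AModX.res (ClSub.idealMod I) hle t) := QCoh.map_tmS _ _ (homOfLE hle) s t
    rw [hst]
    generalize AModX.res E hle s = s'
    generalize AModX.res (ClSub.idealMod I) hle t = t'
    show ρ.app V ((SecTwist.unitorR E).hom.app V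
      (((DCoh.tensorBi (X := X)).obj E).map (ClSub.idealModι I) |>.app V (SecTwist.tmul E _ V s' t'))) = 0
    rw [KoszTw.tensorBi_obj_map]
    refine (congrArg (fun z => ρ.app V ((SecTwist.unitorR E).hom.app V z))
      (KoszTw.tensorMap_tmul (𝟙 E) (ClSub.idealModι I) V s' t')).trans ?_
    refine (congrArg (ρ.app V) (SecTwist.unitorR_tmul E V s' ((ClSub.idealModι I).app V t'))).trans ?_
    refine (Scheme.Modules.Hom.app_smul ρ _ s').trans (smul_tensor_quotMod_eq_zero hE I ⟨V, hV⟩ _ ?_ _)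
    exact congrArg (fun φ : ClSub.idealMod I ⟶ ClSub.quotMod I => φ.app V t') (kernel.condition _)
  refine ⟨hTE.desc _ hz, ?_⟩
  rw [← KoszTw.tensorBi_obj_map, show ((DCoh.tensorBi (X := X)).obj E).map (ClSub.toSubscheme I) ≫ hTE.desc _ hz = _ from
    hTE.g_desc _ hz, Iso.inv_hom_id_assoc]

end Groth.Agent.H44LogNCD
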