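import Groth.Agent.H44LogNCD.Basic
import Groth.Agent.RelTildeX.SheafCrit

/-! # Log differentials of a sub-family of the components -/

universe u

open CategoryTheory CategoryTheory.Limits AlgebraicGeometry TopologicalSpace Opposite

set_option linter.style.haveILetI false
set_option backward.isDefEq.respectTransparency false

namespace Groth.Agent.H44LogNCD

open Groth.Agent.AModX

variable {X S : Scheme.{u}} {f : X ⟶ S} {Ω' : X.Modules} {d : OmegaSh.Der f Ω'} {r : ℕ}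
  {D : Fin (r + 1) → X.IdealSheafData} {i : Fin (r + 1)}
  (Λ : LogNCD.LogMod d D) (Λ' : LogNCD.LogMod d (D ∘ i.succAbove))

theorem app_ι_injective (M : LogNCD.LogMod d D) (U : X.Opens) : Function.Injective (M.ι.app U) :=
  haveI := M.mono
  QCoh.app_injective M.ι U

/-- On a chart the reduced equation times a section has no poles. -/
theorem exists_smul_eq_ι {r' : ℕ} {D' : Fin r' → X.IdealSheafData} (M : LogNCD.LogMod d D') {U : X.affineOpens}
    {g : Fin r' → Γ(X, U.1)} (hg : ∀ j, (D' j).ideal U = Ideal.span {g j}) (z : Γ(M.L, U.1)) :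
    ∃ ω : Γ(Ω', U.1), (∏ j, g j) • z = M.ι.app U.1 ω := by
  classical
  obtain ⟨-, dl, hdl, hgen, -⟩ := rule' M hg
  obtain ⟨ω, c, rfl⟩ := hgen z
  refine ⟨(∏ j, g j) • ω + ∑ k, ((∏ j ∈ Finset.univ.erase k, g j) * c k) • d.app U.1 (g k), ?_⟩
  rw [smul_add, Finset.smul_sum, map_add, map_sum, Scheme.Modules.Hom.app_smul]
  congr 1
  refine Finset.sum_congr rfl fun k _ => ?_
  rw [Scheme.Modules.Hom.app_smul, ← hdl, smul_smul, smul_smul,
    ← Finset.mul_prod_erase _ _ (Finset.mem_univ k)]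
  congr 1
  ring

/-- `w` is the image of `z` in the larger log module. -/
def Rel (W : X.Opens) (z : Γ(Λ'.L, W)) (w : Γ(Λ.L, W)) : Prop :=
  ∀ (U : X.affineOpens) (g : Fin (r + 1) → Γ(X, U.1)) (h : U.1 ≤ W),
    (∀ j, (D j).ideal U = Ideal.span {g j}) →
      ∃ ω : Γ(Ω', U.1), (∏ j, g (i.succAbove j)) • res Λ'.L h z = Λ'.ι.app U.1 ω ∧
        (∏ j, g (i.succAbove j)) • res Λ.L h w = Λ.ι.app U.1 ω

variable (hD : LogNCD.IsNCD D f)

include hD in
theorem rel_unique {W : X.Opens} {z : Γ(Λ'.L, W)} {w w' : Γ(Λ.L, W)} (h : Rel Λ Λ' W z w)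
    (h' : Rel Λ Λ' W z w') : w = w' := by
  refine eq_of_locally _ _ fun x hx => ?_
  obtain ⟨U, g, hxU, hUW, hg⟩ := exists_principal D f hD hx
  obtain ⟨ω, hω₁, hω₂⟩ := h U g hUW hg
  obtain ⟨ω', hω₁', hω₂'⟩ := h' U g hUW hg
  haveI := Λ'.mono
  have he : ω = ω' := QCoh.app_injective Λ'.ι U.1 (hω₁.symm.trans hω₁')
  refine ⟨U.1, hUW, hxU, sub_eq_zero.1 ((rule' Λ hg).1 _ ?_)⟩
  rw [Fin.prod_univ_succAbove _ i, mul_smul, smul_sub, hω₂, hω₂', he, sub_self, smul_zero]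

theorem rel_res {W W' : X.Opens} (h : W' ≤ W) {z : Γ(Λ'.L, W)} {w : Γ(Λ.L, W)} (hr : Rel Λ Λ' W z w) :
    Rel Λ Λ' W' (res _ h z) (res _ h w) := fun U g hle hg => by
  rw [res_res, res_res]; exact hr U g _ hg

theorem rel_add {W : X.Opens} {z z' : Γ(Λ'.L, W)} {w w' : Γ(Λ.L, W)} (h : Rel Λ Λ' W z w)
    (h' : Rel Λ Λ' W z' w') : Rel Λ Λ' W (z + z') (w + w') := fun U g hle hg => by
  obtain ⟨ω, a, b⟩ := h U g hle hg
  obtain ⟨ω', a', b'⟩ := h' U g hle hg
  exact ⟨ω + ω', by rw [map_add, smul_add, a, a', map_add], by rw [map_add, smul_add, b, b', map_add]⟩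

theorem rel_smul {W : X.Opens} (t : Γ(X, W)) {z : Γ(Λ'.L, W)} {w : Γ(Λ.L, W)} (h : Rel Λ Λ' W z w) :
    Rel Λ Λ' W (t • z) (t • w) := fun U g hle hg => by
  obtain ⟨ω, a, b⟩ := h U g hle hg
  exact ⟨resR hle t • ω, by rw [res_smul, smul_comm, a, Scheme.Modules.Hom.app_smul],
    by rw [res_smul, smul_comm, b, Scheme.Modules.Hom.app_smul]⟩

theorem rel_ι {W : X.Opens} (ω : Γ(Ω', W)) : Rel Λ Λ' W (Λ'.ι.app W ω) (Λ.ι.app W ω) := fun U g hle _ =>
  ⟨(∏ j, g (i.succAbove j)) • res Ω' hle ω, by rw [Scheme.Modules.Hom.app_smul, app_res],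
    by rw [Scheme.Modules.Hom.app_smul, app_res]⟩

/-- A witness on one chart suffices. -/
theorem rel_of_chart {U₀ : X.affineOpens} {g₀ : Fin (r + 1) → Γ(X, U₀.1)}
    (hg₀ : ∀ j, (D j).ideal U₀ = Ideal.span {g₀ j}) {z : Γ(Λ'.L, U₀.1)} {w : Γ(Λ.L, U₀.1)} {ω : Γ(Ω', U₀.1)}
    (h₁ : (∏ j, g₀ (i.succAbove j)) • z = Λ'.ι.app U₀.1 ω)
    (h₂ : (∏ j, g₀ (i.succAbove j)) • w = Λ.ι.app U₀.1 ω) : Rel Λ Λ' U₀.1 z w := fun U g hle hg => by
  have hb : ∀ j, ∃ b, g j = b * resR hle (g₀ j) := fun j => by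
    have : g j ∈ Ideal.span {resR hle (g₀ j)} := by
      rw [← ideal_span_res (D j) hle (hg₀ j), hg j]; exact Ideal.mem_span_singleton_self _
    obtain ⟨b, hb⟩ := Ideal.mem_span_singleton'.1 this
    exact ⟨b, hb.symm⟩
  choose b hb using hb
  have hprod : ∏ j, g (i.succAbove j) = (∏ j, b (i.succAbove j)) * resR hle (∏ j, g₀ (i.succAbove j)) := by
    rw [map_prod, ← Finset.prod_mul_distrib]; exact Finset.prod_congr rfl fun j _ => hb _
  refine ⟨(∏ j, b (i.succAbove j)) • res Ω' hle ω, ?_, ?_⟩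
  · rw [hprod, mul_smul, ← res_smul, h₁, ← app_res, Scheme.Modules.Hom.app_smul]
  · rw [hprod, mul_smul, ← res_smul, h₂, ← app_res, Scheme.Modules.Hom.app_smul]

/-- The image on a chart. -/
theorem exists_rel_chart {U₀ : X.affineOpens} {g₀ : Fin (r + 1) → Γ(X, U₀.1)}
    (hg₀ : ∀ j, (D j).ideal U₀ = Ideal.span {g₀ j}) (z : Γ(Λ'.L, U₀.1)) :
    ∃ w : Γ(Λ.L, U₀.1), Rel Λ Λ' U₀.1 z w := by
  classical
  obtain ⟨-, dl', hdl', hgen', -⟩ := rule' Λ' (g := g₀ ∘ i.succAbove) fun j => hg₀ _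
  obtain ⟨-, dl, hdl, -, -⟩ := rule' Λ hg₀
  obtain ⟨ω, c, rfl⟩ := hgen' z
  let P : Fin r → Γ(X, U₀.1) := fun k => ∏ j ∈ Finset.univ.erase k, g₀ (i.succAbove j)
  refine ⟨Λ.ι.app U₀.1 ω + ∑ k, c k • dl (i.succAbove k), rel_of_chart Λ Λ' hg₀
    (ω := (∏ j, g₀ (i.succAbove j)) • ω + ∑ k, (P k * c k) • d.app U₀.1 (g₀ (i.succAbove k))) ?_ ?_⟩
  · rw [smul_add, Finset.smul_sum, map_add, map_sum, Scheme.Modules.Hom.app_smul]
    congr 1
    refine Finset.sum_congr rfl fun k _ => ?_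
    rw [Scheme.Modules.Hom.app_smul, show Λ'.ι.app U₀.1 (d.app U₀.1 (g₀ (i.succAbove k))) = _ from (hdl' k).symm,
      smul_smul, smul_smul, ← Finset.mul_prod_erase _ _ (Finset.mem_univ k)]
    congr 1
    simp only [P, Function.comp_apply]
    ring
  · rw [smul_add, Finset.smul_sum, map_add, map_sum, Scheme.Modules.Hom.app_smul]
    congr 1
    refine Finset.sum_congr rfl fun k _ => ?_
    rw [Scheme.Modules.Hom.app_smul, ← hdl, smul_smul, smul_smul,
      ← Finset.mul_prod_erase _ _ (Finset.mem_univ k)]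
    congr 1
    simp only [P]
    ring

include hD in
theorem exists_rel (W : X.Opens) (z : Γ(Λ'.L, W)) : ∃ w, Rel Λ Λ' W z w := by
  choose U g hxU hUW hg using fun x : W => exists_principal D f hD x.2
  choose w₀ hw₀ using fun x : W => exists_rel_chart Λ Λ' (hg x) (res _ (hUW x) z)
  obtain ⟨w, hw, -⟩ := existsUnique_glue (M := Λ.L) (fun x : W => (U x).1) hUW
    (fun p hp => ⟨⟨p, hp⟩, hxU ⟨p, hp⟩⟩) w₀ fun a b => rel_unique Λ Λ' hD
      (rel_res Λ Λ' inf_le_left (hw₀ a)) (by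
        have := rel_res Λ Λ' (inf_le_right : (U a).1 ⊓ (U b).1 ≤ (U b).1) (hw₀ b)
        rw [res_res] at this ⊢
        exact this)
  refine ⟨w, fun V g' hle hg' => ?_⟩
  obtain ⟨ω, hω⟩ := exists_smul_eq_ι Λ' (g := g' ∘ i.succAbove) (fun j => hg' _) (res _ hle z)
  refine ⟨ω, hω, eq_of_locally _ _ fun x hx => ?_⟩
  obtain ⟨U', g'', hxU', hle', hg''⟩ := exists_principal D f hD
    (show x ∈ V.1 ⊓ (U ⟨x, hle hx⟩).1 from ⟨hx, hxU _⟩)
  have hU'V : U'.1 ≤ V.1 := hle'.trans inf_le_left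
  have hU'U : U'.1 ≤ (U ⟨x, hle hx⟩).1 := hle'.trans inf_le_right
  obtain ⟨ω₀, hω₀, hω₀'⟩ := hw₀ ⟨x, hle hx⟩ U' (fun j => resR hU'V (g' j)) hU'U
    fun j => ideal_span_res (D j) hU'V (hg' j)
  rw [res_res] at hω₀
  rw [← hw ⟨x, hle hx⟩, res_res] at hω₀'
  haveI := Λ'.mono
  have he : res Ω' hU'V ω = ω₀ := QCoh.app_injective Λ'.ι U'.1 <| by
    rw [app_res, ← hω]
    refine Eq.trans ?_ hω₀
    rw [res_smul, res_res, map_prod]
    rfl
  refine ⟨U'.1, hU'V, hxU', ?_⟩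
  rw [← app_res, he, ← hω₀', res_smul, res_res, map_prod]

/-- The inclusion of the log module of the sub-family. -/
noncomputable def incl : Λ'.L ⟶ Λ.L where
  val := PresheafOfModules.homMk
    { app := fun W => AddCommGrpCat.ofHom (AddMonoidHom.mk' (fun k => (exists_rel Λ Λ' hD W.unop k).choose)
        fun k k' => rel_unique Λ Λ' hD (exists_rel Λ Λ' hD W.unop (k + k')).choose_spec
          (rel_add Λ Λ' (exists_rel Λ Λ' hD W.unop k).choose_spec (exists_rel Λ Λ' hD W.unop k').choose_spec))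
      naturality := fun W W' j => by
        ext k
        exact rel_unique Λ Λ' hD (exists_rel Λ Λ' hD W'.unop _).choose_spec
          (rel_res Λ Λ' j.unop.le (exists_rel Λ Λ' hD W.unop k).choose_spec) }
    fun W t k => rel_unique Λ Λ' hD (exists_rel Λ Λ' hD W.unop _).choose_spec
      (rel_smul Λ Λ' t (exists_rel Λ Λ' hD W.unop k).choose_spec)

theorem isSubLog_incl : LogNCD.IsSubLog Λ' Λ (incl Λ Λ' hD) := by
  refine Scheme.Modules.hom_ext _ _ fun W => ?_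
  ext ω
  exact rel_unique Λ Λ' hD (exists_rel Λ Λ' hD W _).choose_spec (rel_ι Λ Λ' ω)

include hD in
theorem shortExact_res (κ : Λ'.L ⟶ Λ.L) (hκ : LogNCD.IsSubLog Λ' Λ κ) (h : κ ≫ Λ.res i = 0) :
    (ShortComplex.mk κ (Λ.res i) h).ShortExact := by
  have hκι : ∀ (W : X.Opens) (ω : Γ(Ω', W)), κ.app W (Λ'.ι.app W ω) = Λ.ι.app W ω := fun W ω =>
    congrArg (fun φ : Ω' ⟶ Λ.L => φ.app W ω) hκ
  haveI := Λ'.mono
  haveI := Λ.mono
  haveI hmono : Mono κ := by
    refine Preadditive.mono_of_kernel_zero <| Scheme.Modules.hom_ext _ _ fun W => ?_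
    ext s
    have hs : κ.app W ((kernel.ι κ).app W s) = 0 :=
      congrArg (fun φ : kernel κ ⟶ Λ.L => φ.app W s) (kernel.condition κ)
    refine eq_of_locally (M := Λ'.L) _ _ fun x hx => ?_
    obtain ⟨U, g, hxU, hle, hg⟩ := exists_principal D f hD hx
    obtain ⟨ω, hω⟩ := exists_smul_eq_ι Λ' (g := g ∘ i.succAbove) (fun j => hg _)
      (res _ hle ((kernel.ι κ).app W s))
    have hω0 : Λ.ι.app U.1 ω = 0 := by
      rw [← hκι, ← hω, Scheme.Modules.Hom.app_smul, app_res, hs, map_zero, smul_zero]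
    have : ω = 0 := app_ι_injective Λ U.1 (hω0.trans (map_zero _).symm)
    rw [this, map_zero] at hω
    refine ⟨U.1, hle, hxU, ((rule' Λ' (g := g ∘ i.succAbove) fun j => hg _).1 _ hω).trans ?_⟩
    exact (map_zero _).symm
  have key : ∀ {U : X.affineOpens} {g : Fin (r + 1) → Γ(X, U.1)} (hg : ∀ j, (D j).ideal U = Ideal.span {g j})
      (dl : Fin (r + 1) → Γ(Λ.L, U.1)) (_ : ∀ j, g j • dl j = Λ.ι.app U.1 (d.app U.1 (g j))),
      ∀ k, ∃ z, κ.app U.1 z = dl (i.succAbove k) := by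
    intro U g hg dl hdl k
    obtain ⟨-, dl', hdl', -, -⟩ := rule' Λ' (g := g ∘ i.succAbove) fun j => hg _
    refine ⟨dl' k, sub_eq_zero.1 ((rule' Λ hg).1 _ ?_)⟩
    rw [← Finset.mul_prod_erase _ _ (Finset.mem_univ (i.succAbove k)), mul_comm, mul_smul, smul_sub, hdl,
      ← Scheme.Modules.Hom.app_smul, show g (i.succAbove k) • dl' k = _ from hdl' k, hκι]
    simp
  refine ShortComplex.ShortExact.mk' (RelTildeX.exact_of_locally _ fun W s hs x hx => ?_) hmono ?_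
  · obtain ⟨U, g, hxU, hle, hg⟩ := exists_principal D f hD hx
    obtain ⟨-, dl, hdl, hgen, hres⟩ := rule' Λ hg
    obtain ⟨ω, c, hz⟩ := hgen (res _ hle s)
    have hc : c i ∈ Ideal.span {g i} := by
      rw [← hg i, ← toSubscheme_eq_zero_iff, ← res_sum Λ hres ω c i, ← hz, app_res]
      exact (congrArg _ hs).trans (map_zero _)
    obtain ⟨b, hb⟩ := Ideal.mem_span_singleton'.1 hc
    choose z hz' using key hg dl hdl
    refine ⟨U.1, hle, hxU, Λ'.ι.app U.1 (ω + b • d.app U.1 (g i)) + ∑ k, c (i.succAbove k) • z k, ?_⟩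
    show κ.app U.1 _ = res _ hle s
    rw [map_add, hκι, map_sum, hz, map_add, Scheme.Modules.Hom.app_smul, ← hdl, smul_smul, hb,
      Fin.sum_univ_succAbove _ i, ← add_assoc]
    congr 1
    exact Finset.sum_congr rfl fun k _ => by rw [Scheme.Modules.Hom.app_smul, hz']
  · refine RelTildeX.epi_of_locally _ fun W s x hx => ?_
    obtain ⟨U, g, hxU, hle, hg⟩ := exists_principal D f hD hx
    obtain ⟨-, dl, -, -, hres⟩ := rule' Λ hg
    obtain ⟨a, ha⟩ := toSubscheme_surjective (D i) U (res _ hle s)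
    refine ⟨U.1, hle, hxU, (show Γ(X, U.1) from a) • dl i, ?_⟩
    exact (hres i i _).trans ((if_pos rfl).trans ha)

end Groth.Agent.H44LogNCD
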